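import Mathlib

/-! Quasi-finite algebras of finite type are finite near minimal primes of the base. -/

universe u

open scoped TensorProduct

namespace Groth.Agent.FlatMorQF

theorem exists_mul_mem_nilradical {A B : Type u} [CommRing A] [CommRing B] [Algebra A B]
    (p : Ideal A) (hp : p ∈ minimalPrimes A) (x : B)
    (hx : ∀ q : Ideal B, q.IsPrime → q.comap (algebraMap A B) = p → x ∈ q) :
    ∃ t ∉ p, IsNilpotent (algebraMap A B t * x) := by
  haveI : p.IsPrime := Ideal.minimalPrimes_isPrime hp
  let T : Submonoid B := Algebra.algebraMapSubmonoid B p.primeCompl ⊔ Submonoid.powers x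
  by_cases h0 : (0 : B) ∈ T
  · obtain ⟨_, ⟨t, ht, rfl⟩, _, ⟨k, rfl⟩, h⟩ := Submonoid.mem_sup.mp h0
    refine ⟨t, ht, k + 1, ?_⟩
    rw [mul_pow, pow_succ, pow_succ]
    linear_combination ((algebraMap A B t) ^ k * x) * h
  · exfalso
    obtain ⟨q, hq, -, hqT⟩ := Ideal.exists_le_prime_disjoint (⊥ : Ideal B) T
      (Set.disjoint_left.mpr fun b hb hbT => h0 ((Ideal.mem_bot.mp hb) ▸ hbT))
    have hqp : q.comap (algebraMap A B) ≤ p := fun a ha => by
      by_contra hap
      exact Set.disjoint_left.mp hqT ha
        (Submonoid.mem_sup_left (S := Algebra.algebraMapSubmonoid B p.primeCompl) ⟨a, hap, rfl⟩)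
    have hqp' : q.comap (algebraMap A B) = p :=
      le_antisymm hqp (hp.2 ⟨hq.comap _, bot_le⟩ hqp)
    exact Set.disjoint_left.mp hqT (hx q hq hqp')
      (Submonoid.mem_sup_right (Submonoid.mem_powers x))

/-- Every element of a quasi-finite algebra is integral over a localisation near a minimal prime. -/
theorem exists_isIntegral_away {A B : Type u} [CommRing A] [CommRing B] [Algebra A B]
    [Algebra.QuasiFinite A B] (p : Ideal A) [p.IsPrime] (hp : p ∈ minimalPrimes A) (b : B) :
    ∃ c ∉ p, ∀ (A' : Type u) [CommRing A'] [Algebra A A'] (B' : Type u) [CommRing B'] [Algebra B B']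
      [Algebra A' B'] [Algebra A B'] [IsScalarTower A A' B'] [IsScalarTower A B B'],
      IsUnit (algebraMap A A' c) → IsIntegral A' (algebraMap B B' b) := by
  let F := p.Fiber B
  haveI : Module.Finite p.ResidueField F := inferInstance
  have hb : IsIntegral p.ResidueField ((1 : p.ResidueField) ⊗ₜ[A] b : F) :=
    Algebra.IsIntegral.isIntegral _
  obtain ⟨⟨m, hm⟩, hint⟩ :=
    IsIntegral.exists_multiple_integral_of_isLocalization (R := A ⧸ p)
      (nonZeroDivisors (A ⧸ p)) ((1 : p.ResidueField) ⊗ₜ[A] b : F) hb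
  obtain ⟨s, rfl⟩ := Ideal.Quotient.mk_surjective m
  have hs : s ∉ p := fun h =>
    nonZeroDivisors.ne_zero hm (Ideal.Quotient.eq_zero_iff_mem.mpr h)
  obtain ⟨P, hPm, hP⟩ := hint
  obtain ⟨P', hP', -, hP'm⟩ := Polynomial.lifts_and_degree_eq_and_monic
    (f := Ideal.Quotient.mk p) ((Polynomial.mem_lifts P).mpr
      ((Polynomial.map_surjective _ Ideal.Quotient.mk_surjective) P)) hPm
  have hF : Polynomial.aeval ((1 : p.ResidueField) ⊗ₜ[A] (algebraMap A B s * b) : F) P' = 0 := by
    rw [← hP', Polynomial.eval₂_map] at hP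
    rw [Polynomial.aeval_def]
    have h1 : (algebraMap A F) = (algebraMap (A ⧸ p) F).comp (Ideal.Quotient.mk p) :=
      RingHom.ext fun a => IsScalarTower.algebraMap_apply A (A ⧸ p) F a
    have h2 : ((1 : p.ResidueField) ⊗ₜ[A] (algebraMap A B s * b) : F) =
        (⟨Ideal.Quotient.mk p s, hm⟩ : nonZeroDivisors (A ⧸ p)) •
          ((1 : p.ResidueField) ⊗ₜ[A] b : F) := by
      rw [Submonoid.smul_def, ← Algebra.smul_def, TensorProduct.tmul_smul]
      exact (IsScalarTower.algebraMap_smul (A ⧸ p) s ((1 : p.ResidueField) ⊗ₜ[A] b : F)).symm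
    rw [h2, h1]
    exact hP
  obtain ⟨t, ht, hnil⟩ := exists_mul_mem_nilradical p hp
    (Polynomial.aeval (algebraMap A B s * b) P') (fun q hq hqp => by
      haveI := hq
      let g : F →ₐ[A] q.ResidueField := Algebra.TensorProduct.lift
        (Ideal.ResidueField.mapₐ p q (Algebra.ofId A B) hqp.symm)
        (IsScalarTower.toAlgHom A B q.ResidueField) (fun _ _ => Commute.all _ _)
      have hg : g ((1 : p.ResidueField) ⊗ₜ[A] (algebraMap A B s * b)) =
          IsScalarTower.toAlgHom A B q.ResidueField (algebraMap A B s * b) := by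
        exact (Algebra.TensorProduct.lift_tmul _ _ _ _ _).trans (by rw [map_one, one_mul])
      have h1 := congrArg g hF
      rw [← Polynomial.aeval_algHom_apply, map_zero, hg, Polynomial.aeval_algHom_apply] at h1
      exact Ideal.algebraMap_residueField_eq_zero.mp h1)
  refine ⟨s * t, fun h => ((‹p.IsPrime›).mem_or_mem h).elim hs ht, fun A' _ _ B' _ _ _ _ _ _ hu => ?_⟩
  rw [map_mul] at hu
  have hus : IsUnit (algebraMap A A' s) := isUnit_of_mul_isUnit_left hu
  have hut : IsUnit (algebraMap A B' t) := by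
    rw [IsScalarTower.algebraMap_apply A A' B']
    exact (isUnit_of_mul_isUnit_right hu).map _
  obtain ⟨k, hk⟩ := hnil.map (algebraMap B B')
  rw [map_mul, ← IsScalarTower.algebraMap_apply A B B', mul_pow,
    (hut.pow k).mul_right_eq_zero] at hk
  have hsb : IsIntegral A (algebraMap B B' (algebraMap A B s * b)) := by
    refine ⟨P' ^ k, hP'm.pow k, ?_⟩
    rw [← Polynomial.aeval_def, map_pow,
      Polynomial.aeval_algebraMap_apply B' (algebraMap A B s * b) P', hk]
  have hsb' : IsIntegral A' (algebraMap B B' (algebraMap A B s * b)) := hsb.tower_top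
  rw [map_mul, ← IsScalarTower.algebraMap_apply A B B', IsScalarTower.algebraMap_apply A A' B'] at hsb'
  obtain ⟨w, hw⟩ := hus.exists_left_inv
  have := (isIntegral_algebraMap (R := A') (A := B') (x := w)).mul hsb'
  rwa [← mul_assoc, ← map_mul, hw, map_one, one_mul] at this

theorem exists_awayMap_finite {A B : Type u} [CommRing A] [CommRing B] [Algebra A B]
    [Algebra.QuasiFinite A B] [Algebra.FiniteType A B] (p : Ideal A) [p.IsPrime]
    (hp : p ∈ minimalPrimes A) :
    ∃ c ∉ p, ∀ a, c ∣ a → (Localization.awayMap (algebraMap A B) a).Finite := by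
  classical
  obtain ⟨gens, hgens⟩ := Algebra.FiniteType.out (R := A) (A := B)
  choose cf hcf hint using fun b : B => exists_isIntegral_away p hp b
  refine ⟨∏ b ∈ gens, cf b, fun h => ?_, fun a ha => ?_⟩
  · obtain ⟨b, -, hb⟩ := Ideal.IsPrime.prod_mem_iff.mp h
    exact hcf b hb
  let A' := Localization.Away a
  let B' := Localization.Away (algebraMap A B a)
  let φ : A' →+* B' := Localization.awayMap (algebraMap A B) a
  letI := φ.toAlgebra
  haveI : IsScalarTower A A' B' := IsScalarTower.of_algebraMap_eq fun x => by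
    change _ = φ (algebraMap A A' x)
    rw [IsScalarTower.algebraMap_apply A B B']
    exact (IsLocalization.map_eq _ _).symm
  have hua : IsUnit (algebraMap A A' a) :=
    IsLocalization.map_units A' (⟨a, Submonoid.mem_powers a⟩ : Submonoid.powers a)
  have hft : φ.FiniteType := by
    have h : (algebraMap A B).FiniteType := RingHom.finiteType_algebraMap.mpr ‹_›
    exact RingHom.finiteType_localizationPreserves.away (algebraMap A B) a A' B' h
  refine RingHom.IsIntegral.to_finite (fun y => ?_) hft
  change IsIntegral A' y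
  obtain ⟨⟨x, _, k, rfl⟩, hx⟩ := IsLocalization.surj (Submonoid.powers (algebraMap A B a)) y
  have hxint : IsIntegral A' (algebraMap B B' x) := by
    have hxmem : x ∈ Algebra.adjoin A (gens : Set B) := hgens ▸ Algebra.mem_top
    refine Algebra.adjoin_induction (p := fun x _ => IsIntegral A' (algebraMap B B' x))
      (fun b hb => ?_) (fun r => ?_) (fun x y _ _ h h' => ?_) (fun x y _ _ h h' => ?_) hxmem
    · exact hint b A' B' (isUnit_of_dvd_unit
        (map_dvd _ ((Finset.dvd_prod_of_mem cf hb).trans ha)) hua)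
    · rw [← IsScalarTower.algebraMap_apply A B B', IsScalarTower.algebraMap_apply A A' B']
      exact isIntegral_algebraMap
    · rw [map_add]; exact h.add h'
    · rw [map_mul]; exact h.mul h'
  obtain ⟨w, hw⟩ := (hua.pow k).exists_left_inv
  have h1 : algebraMap A' B' w * algebraMap B B' x = y := by
    dsimp only at hx
    rw [← hx, map_pow, ← IsScalarTower.algebraMap_apply A B B',
      IsScalarTower.algebraMap_apply A A' B', mul_comm y, ← mul_assoc, ← map_pow, ← map_mul, hw,
      map_one, one_mul]
  exact h1 ▸ isIntegral_algebraMap.mul hxint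

end Groth.Agent.FlatMorQF
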