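import Mathlib

/-! Quasi-finite flat algebras are free near the generic points of closed subsets, with finitely many
equations; torsion submodules of flat algebras. -/

universe u

namespace Groth.Agent.FlatMorQF

open TensorProduct

variable {A B : Type u} [CommRing A] [CommRing B] [Algebra A B]

variable (A) in
/-- The map `C^r → C ⊗ B` of a family. -/
noncomputable def alpha (C : Type u) [CommRing C] [Algebra A C] {r : ℕ} (e : Fin r → B) :
    (Fin r → C) →ₗ[C] C ⊗[A] B :=
  Fintype.linearCombination C fun i => (1 : C) ⊗ₜ[A] e i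

theorem alpha_apply (C : Type u) [CommRing C] [Algebra A C] {r : ℕ} (e : Fin r → B) (v : Fin r → C) :
    alpha A C e v = ∑ i, v i ⊗ₜ[A] e i := by
  simp [alpha, Fintype.linearCombination_apply, TensorProduct.smul_tmul']

/-- An element killed in `(A_p/𝔞A_p) ⊗ B`. -/
theorem exists_smul_mem_map {p : Ideal A} [p.IsPrime] (𝔞 : Ideal A) (z : B)
    (h : (1 : Localization.AtPrime p ⧸ 𝔞.map (algebraMap A (Localization.AtPrime p))) ⊗ₜ[A] z = 0) :
    ∃ t ∉ p, ∃ 𝔟 : Ideal A, 𝔟.FG ∧ 𝔟 ≤ 𝔞 ∧ t • z ∈ 𝔟.map (algebraMap A B) := by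
  let S := Algebra.algebraMapSubmonoid B p.primeCompl
  let L := Localization S
  let J : Ideal L := 𝔞.map (algebraMap A L)
  have hu : ∀ s : p.primeCompl, IsUnit (Algebra.ofId A (L ⧸ J) s.1) := fun s => by
    have : IsUnit (algebraMap B L (algebraMap A B s.1)) :=
      IsLocalization.map_units L (⟨_, ⟨s.1, s.2, rfl⟩⟩ : S)
    rw [← IsScalarTower.algebraMap_apply] at this
    exact this.map (Ideal.Quotient.mk J)
  let ψ₀ : Localization.AtPrime p →ₐ[A] L ⧸ J := IsLocalization.liftAlgHom (M := p.primeCompl) (f := Algebra.ofId A (L ⧸ J)) hu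
  let ψ := Ideal.Quotient.liftₐ (𝔞.map (algebraMap A (Localization.AtPrime p))) ψ₀ (by
    intro x hx
    refine (Ideal.map_le_iff_le_comap.2 (fun a ha => ?_) hx : x ∈ RingHom.ker ψ₀.toRingHom)
    show ψ₀ (algebraMap A _ a) = 0
    rw [AlgHom.commutes]
    exact Ideal.Quotient.eq_zero_iff_mem.2 (Ideal.mem_map_of_mem (algebraMap A L) ha))
  let Φ := Algebra.TensorProduct.lift ψ (IsScalarTower.toAlgHom A B (L ⧸ J)) fun _ _ => Commute.all _ _
  have h0 : Φ ((1 : Localization.AtPrime p ⧸ _) ⊗ₜ[A] z) = 0 := by rw [h, map_zero]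
  simp only [Φ, Algebra.TensorProduct.lift_tmul, map_one, one_mul] at h0
  have h1 : algebraMap B L z ∈ (𝔞.map (algebraMap A B)).map (algebraMap B L) := by
    rw [Ideal.map_map, ← IsScalarTower.algebraMap_eq]
    exact Ideal.Quotient.eq_zero_iff_mem.1 h0
  rw [IsLocalization.algebraMap_mem_map_algebraMap_iff S] at h1
  obtain ⟨_, ⟨t, ht, rfl⟩, hmem⟩ := h1
  rw [← Algebra.smul_def] at hmem
  obtain ⟨T, hT, hzT⟩ := Submodule.mem_span_finite_of_mem_span hmem
  classical
  obtain ⟨T₀, hT₀, rfl⟩ := Finset.subset_set_image_iff.1 hT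
  refine ⟨t, ht, Ideal.span T₀, ⟨T₀, rfl⟩, Ideal.span_le.2 hT₀, ?_⟩
  rw [Ideal.map_span]
  simpa [Finset.coe_image, Ideal.span] using hzT

/-- A finite type quasi-finite algebra over a local ring with nil maximal ideal is finite. -/
theorem finite_of_nil (K : Type u) [CommRing K] [IsLocalRing K] [Algebra A K] [Algebra.FiniteType A B]
    [Algebra.QuasiFinite A B] (hnil : ∀ x ∈ IsLocalRing.maximalIdeal K, IsNilpotent x) :
    Module.Finite K (K ⊗[A] B) := by
  let k := IsLocalRing.ResidueField K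
  haveI : Algebra.IsIntegral K (K ⊗[A] B) := ⟨fun x => by
    let ψ : K ⊗[A] B →ₐ[K] k ⊗[A] B :=
      Algebra.TensorProduct.map (Algebra.ofId K k) (AlgHom.id A B)
    have hker : ∀ z, ψ z = 0 → IsNilpotent z := by
      intro z hz
      have hex := rTensor_exact (f := ((IsLocalRing.maximalIdeal K).restrictScalars A).subtype)
        (g := (IsScalarTower.toAlgHom A K k).toLinearMap) B ?_ IsLocalRing.residue_surjective
      · have hzr : (IsScalarTower.toAlgHom A K k).toLinearMap.rTensor B z = 0 := by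
          rw [← hz]
          clear hz hex
          induction z using TensorProduct.induction_on with
          | zero => simp
          | add a b ha hb => rw [map_add, map_add, ha, hb]
          | tmul c b => rfl
        obtain ⟨w, rfl⟩ := (hex z).1 hzr
        clear hz hzr
        induction w using TensorProduct.induction_on with
        | zero => simp
        | add a b ha hb => rw [map_add]; exact (Commute.all _ _).isNilpotent_add ha hb
        | tmul c b =>
          show IsNilpotent ((c : K) ⊗ₜ[A] b)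
          rw [show ((c : K) ⊗ₜ[A] b) = ((c : K) ⊗ₜ[A] (1 : B)) * ((1 : K) ⊗ₜ[A] b) by simp]
          exact (Commute.all _ _).isNilpotent_mul_right ((hnil c c.2).map (algebraMap K (K ⊗[A] B)))
      · intro c
        show IsLocalRing.residue K c = 0 ↔ _
        rw [IsLocalRing.residue_eq_zero_iff]
        exact ⟨fun h => ⟨⟨c, h⟩, rfl⟩, by rintro ⟨⟨c, h⟩, rfl⟩; exact h⟩
    haveI : Module.Finite k (k ⊗[A] B) := Module.Finite.of_quasiFinite
    obtain ⟨P, hP, hP0⟩ := IsIntegral.of_finite k (ψ x)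
    obtain ⟨Q, hQ, -, hQm⟩ := Polynomial.lifts_and_degree_eq_and_monic
      (Polynomial.map_surjective (IsLocalRing.residue K) IsLocalRing.residue_surjective P |>.imp fun _ h => h) hP
    have : ψ (Polynomial.aeval x Q) = 0 := by
      rw [← Polynomial.aeval_algHom_apply, ← hP0, ← Polynomial.aeval_def, ← Polynomial.aeval_map_algebraMap k]
      exact congrArg (Polynomial.aeval (ψ x)) hQ
    obtain ⟨n, hn⟩ := hker _ this
    exact ⟨Q ^ n, hQm.pow n, by rw [← Polynomial.aeval_def, map_pow, hn]⟩⟩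
  exact Algebra.IsIntegral.finite

section Spread

variable (p : Ideal A) [p.IsPrime] (𝔞 : Ideal A)

/-- The local ring of the closed subset at `p`. -/
abbrev Loc : Type u := Localization.AtPrime p ⧸ 𝔞.map (algebraMap A (Localization.AtPrime p))

theorem isUnit_loc (t : A) (ht : t ∉ p) : IsUnit (algebraMap A (Loc p 𝔞) t) :=
  (IsLocalization.map_units (Localization.AtPrime p) (⟨t, ht⟩ : p.primeCompl)).map (Ideal.Quotient.mk _)

theorem exists_den (c : Loc p 𝔞) : ∃ t ∉ p, ∃ a : A, algebraMap A (Loc p 𝔞) t * c = algebraMap A (Loc p 𝔞) a := by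
  obtain ⟨c, rfl⟩ := Ideal.Quotient.mk_surjective c
  obtain ⟨⟨a, t⟩, hat⟩ := IsLocalization.surj p.primeCompl c
  refine ⟨t.1, t.2, a, ?_⟩
  show Ideal.Quotient.mk _ (algebraMap A _ t.1) * Ideal.Quotient.mk _ c = _
  rw [← map_mul, mul_comm, hat]
  rfl

variable {p 𝔞}

theorem isLocalRing_loc (hp : p ∈ 𝔞.minimalPrimes) :
    ∃ _ : IsLocalRing (Loc p 𝔞), ∀ x ∈ IsLocalRing.maximalIdeal (Loc p 𝔞), IsNilpotent x := by
  set 𝔞' := 𝔞.map (algebraMap A (Localization.AtPrime p))
  have hle : 𝔞' ≤ IsLocalRing.maximalIdeal _ := by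
    rw [← Localization.AtPrime.map_eq_maximalIdeal]
    exact Ideal.map_mono hp.1.2
  have : Nontrivial (Localization.AtPrime p ⧸ 𝔞') := Ideal.Quotient.nontrivial_iff.2 fun h =>
    (IsLocalRing.maximalIdeal.isMaximal _).ne_top (top_le_iff.1 (h ▸ hle))
  have hloc : IsLocalRing (Loc p 𝔞) := IsLocalRing.of_surjective' (Ideal.Quotient.mk 𝔞') Ideal.Quotient.mk_surjective
  refine ⟨hloc, fun x hx => ?_⟩
  rw [← mem_nilradical, nilradical_eq_sInf]
  refine Submodule.mem_sInf.2 fun (P : Ideal (Loc p 𝔞)) (hP : P.IsPrime) => ?_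
  suffices P = IsLocalRing.maximalIdeal _ from this ▸ hx
  have hsub : P.comap (algebraMap A (Loc p 𝔞)) ≤ p := fun a ha => by
    by_contra hap
    exact hP.ne_top (Ideal.eq_top_of_isUnit_mem _ ha (isUnit_loc p 𝔞 a hap))
  have hPc := Ideal.IsPrime.comap (hK := hP) (algebraMap A (Loc p 𝔞))
  have h1 : P.comap (algebraMap A (Loc p 𝔞)) = p := le_antisymm hsub
    (hp.2 ⟨hPc, fun a ha => by
      show Ideal.Quotient.mk 𝔞' (algebraMap A _ a) ∈ P
      rw [Ideal.Quotient.eq_zero_iff_mem.2 (Ideal.mem_map_of_mem _ ha)]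
      exact P.zero_mem⟩ hsub)
  let q : Localization.AtPrime p →+* Loc p 𝔞 := Ideal.Quotient.mk 𝔞'
  have hq : Function.Surjective q := Ideal.Quotient.mk_surjective
  have h2 : P.comap q = IsLocalRing.maximalIdeal _ := by
    rw [← IsLocalization.map_under p.primeCompl (Localization.AtPrime p) (P.comap q),
      ← Localization.AtPrime.map_eq_maximalIdeal]
    exact congrArg (Ideal.map _) h1
  refine IsLocalRing.eq_maximalIdeal ?_
  rw [← Ideal.map_comap_of_surjective q hq P, h2]
  exact (Ideal.map_eq_top_or_isMaximal_of_surjective q hq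
    (IsLocalRing.maximalIdeal.isMaximal _)).resolve_left fun h => hP.ne_top (by
      rw [← Ideal.map_comap_of_surjective q hq P, h2, h])

/-- A family of the algebra giving a basis over the local ring of the closed subset. -/
theorem exists_basis [Algebra.FiniteType A B] [Module.Flat A B] [Algebra.QuasiFinite A B]
    (hp : p ∈ 𝔞.minimalPrimes) :
    ∃ (r : ℕ) (e : Fin r → B), Function.Bijective (alpha A (Loc p 𝔞) e) ∧
      ∀ b : B, ∃ T ∉ p, ∃ a : Fin r → A, (1 : Loc p 𝔞) ⊗ₜ[A] (T • b - ∑ i, a i • e i) = 0 := by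
  classical
  obtain ⟨_, hnil⟩ := isLocalRing_loc hp
  have := finite_of_nil (A := A) (B := B) (Loc p 𝔞) hnil
  have : Module.Free (Loc p 𝔞) (Loc p 𝔞 ⊗[A] B) := Module.free_of_flat_of_isLocalRing
  let bas := Module.finBasis (Loc p 𝔞) (Loc p 𝔞 ⊗[A] B)
  have hone : (1 : A) ∉ p := p.ne_top_iff_one.1 (Ideal.IsPrime.ne_top ‹_›)
  have hrep : ∀ d : Loc p 𝔞 ⊗[A] B, ∃ t ∉ p, ∃ b : B,
      algebraMap A (Loc p 𝔞) t • d = (1 : Loc p 𝔞) ⊗ₜ[A] b := by
    intro d
    induction d using TensorProduct.induction_on with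
    | zero => exact ⟨1, hone, 0, by simp⟩
    | tmul c b =>
      obtain ⟨t, ht, a, ha⟩ := exists_den p 𝔞 c
      refine ⟨t, ht, a • b, ?_⟩
      rw [TensorProduct.smul_tmul', smul_eq_mul, ha, Algebra.algebraMap_eq_smul_one, TensorProduct.smul_tmul]
    | add x y hx hy =>
      obtain ⟨t₁, h₁, b₁, e₁⟩ := hx
      obtain ⟨t₂, h₂, b₂, e₂⟩ := hy
      refine ⟨t₁ * t₂, fun h => ((Ideal.IsPrime.mem_or_mem ‹_›) h).elim h₁ h₂, t₂ • b₁ + t₁ • b₂, ?_⟩
      rw [map_mul, smul_add, TensorProduct.tmul_add, mul_comm, mul_smul, e₁, mul_comm, mul_smul, e₂,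
        algebraMap_smul, algebraMap_smul, TensorProduct.tmul_smul, TensorProduct.tmul_smul]
  choose t ht e he using fun i => hrep (bas i)
  let bas' := bas.unitsSMul fun i => (isUnit_loc p 𝔞 _ (ht i)).unit
  have hbas' : ∀ i, bas' i = (1 : Loc p 𝔞) ⊗ₜ[A] e i := fun i => by
    rw [Module.Basis.unitsSMul_apply, Units.smul_def, IsUnit.unit_spec, he]
  have hb : alpha A (Loc p 𝔞) e = bas'.equivFun.symm.toLinearMap := LinearMap.ext fun w => by
    rw [alpha_apply, LinearEquiv.coe_coe, Module.Basis.equivFun_symm_apply]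
    refine Finset.sum_congr rfl fun j _ => ?_
    rw [hbas', TensorProduct.smul_tmul', smul_eq_mul, mul_one]
  refine ⟨_, e, hb ▸ bas'.equivFun.symm.bijective, fun b => ?_⟩
  choose t' ht' a' ha' using fun i => exists_den p 𝔞 (bas'.repr ((1 : Loc p 𝔞) ⊗ₜ[A] b) i)
  refine ⟨∏ i, t' i, fun h => by
      obtain ⟨i, -, hi⟩ := (Ideal.IsPrime.prod_mem_iff).1 h
      exact ht' i hi, fun i => (∏ j ∈ Finset.univ.erase i, t' j) * a' i, ?_⟩
  rw [TensorProduct.tmul_sub, sub_eq_zero, TensorProduct.tmul_smul, TensorProduct.tmul_sum]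
  conv_lhs => rw [← bas'.sum_repr ((1 : Loc p 𝔞) ⊗ₜ[A] b), Finset.smul_sum]
  refine Finset.sum_congr rfl fun i _ => ?_
  rw [TensorProduct.tmul_smul, ← hbas', ← algebraMap_smul (Loc p 𝔞) (∏ j, t' j),
    ← algebraMap_smul (Loc p 𝔞) (_ * a' i), smul_smul]
  congr 1
  rw [← Finset.prod_erase_mul _ _ (Finset.mem_univ i), map_mul, map_mul, mul_assoc, ha' i]

/-- Surjectivity spreads out. -/
theorem exists_surjective [Algebra.FiniteType A B] {r : ℕ} (e : Fin r → B)
    (heq : ∀ b : B, ∃ T ∉ p, ∃ a : Fin r → A, (1 : Loc p 𝔞) ⊗ₜ[A] (T • b - ∑ i, a i • e i) = 0) :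
    ∃ s ∉ p, ∃ 𝔟 : Ideal A, 𝔟.FG ∧ 𝔟 ≤ 𝔞 ∧
      ∀ (C : Type u) [CommRing C] [Algebra A C], IsUnit (algebraMap A C s) → 𝔟.map (algebraMap A C) = ⊥ →
        Function.Surjective (alpha A C e) := by
  obtain ⟨G, hG⟩ := (Algebra.FiniteType.out : (⊤ : Subalgebra A B).FG)
  let I := Option ({x // x ∈ G} × Fin r)
  let el : I → B := fun o => o.elim 1 fun xi => xi.1.1 * e xi.2
  choose T hT a ha using fun o : I => heq (el o)
  choose t₁ ht₁ 𝔟₁ hfg₁ hle₁ hmem₁ using fun o : I => exists_smul_mem_map 𝔞 _ (ha o)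
  let s₁ := (∏ o, T o) * ∏ o, t₁ o
  let 𝔟 := (Finset.univ : Finset I).sup 𝔟₁
  have hs₁ : s₁ ∉ p := fun h => by
    rcases Ideal.IsPrime.mem_or_mem ‹_› h with h | h
    · obtain ⟨o, -, ho⟩ := (Ideal.IsPrime.prod_mem_iff).1 h
      exact hT o ho
    · obtain ⟨o, -, ho⟩ := (Ideal.IsPrime.prod_mem_iff).1 h
      exact ht₁ o ho
  refine ⟨s₁, hs₁, 𝔟, Submodule.fg_finset_sup _ _ fun o _ => hfg₁ o, Finset.sup_le fun o _ => hle₁ o, ?_⟩
  suffices hsurj : ∀ (C : Type u) [CommRing C] [Algebra A C], IsUnit (algebraMap A C s₁) →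
      𝔟.map (algebraMap A C) = ⊥ → Function.Surjective (alpha A C e) from hsurj
  intro C _ _ hs h𝔟
  let M := LinearMap.range (alpha A C e)
  have hmemM : ∀ i, (1 : C) ⊗ₜ[A] e i ∈ M := fun i => ⟨Pi.single i 1, by
    rw [alpha_apply, Finset.sum_eq_single i] <;> simp +contextual⟩
  have hs' := (IsUnit.mul_iff.1 (map_mul (algebraMap A C) _ _ ▸ hs))
  have hel : ∀ o, (1 : C) ⊗ₜ[A] el o ∈ M := by
    intro o
    have hT' : IsUnit (algebraMap A C (T o)) := isUnit_of_dvd_unit (map_dvd _ (Finset.dvd_prod_of_mem T (Finset.mem_univ o))) hs'.1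
    have ht' : IsUnit (algebraMap A C (t₁ o)) := isUnit_of_dvd_unit (map_dvd _ (Finset.dvd_prod_of_mem t₁ (Finset.mem_univ o))) hs'.2
    have h0 : (1 : C) ⊗ₜ[A] (t₁ o • (T o • el o - ∑ i, a o i • e i)) = 0 := by
      have hb : (𝔟₁ o).map (algebraMap A B) ≤
          RingHom.ker (Algebra.TensorProduct.includeRight : B →ₐ[A] C ⊗[A] B).toRingHom := by
        rw [Ideal.map_le_iff_le_comap]
        intro x hx
        show (1 : C) ⊗ₜ[A] algebraMap A B x = 0
        have : algebraMap A C x = 0 := by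
          rw [← Ideal.mem_bot, ← h𝔟]
          exact Ideal.mem_map_of_mem _ ((Finset.le_sup (f := 𝔟₁) (Finset.mem_univ o)) hx)
        rw [Algebra.algebraMap_eq_smul_one, ← TensorProduct.smul_tmul, ← Algebra.algebraMap_eq_smul_one, this,
          TensorProduct.zero_tmul]
      exact hb (hmem₁ o)
    rw [TensorProduct.tmul_smul, ← algebraMap_smul C (t₁ o), ht'.smul_eq_zero, TensorProduct.tmul_sub,
      sub_eq_zero, TensorProduct.tmul_smul, ← algebraMap_smul C (T o)] at h0
    have : algebraMap A C (T o) • ((1 : C) ⊗ₜ[A] el o) ∈ M := by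
      rw [h0, TensorProduct.tmul_sum]
      refine Submodule.sum_mem _ fun i _ => ?_
      rw [TensorProduct.tmul_smul, ← algebraMap_smul C]
      exact M.smul_mem _ (hmemM i)
    exact (Submodule.smul_mem_iff_of_isUnit _ hT').1 this
  have hclosed : ∀ b : B, ∀ m ∈ M, ((1 : C) ⊗ₜ[A] b) * m ∈ M := by
    intro b
    have hb : b ∈ Algebra.adjoin A (G : Set B) := hG ▸ Algebra.mem_top
    induction hb using Algebra.adjoin_induction with
    | mem x hx =>
      rintro _ ⟨v, rfl⟩
      rw [alpha_apply, Finset.mul_sum]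
      refine Submodule.sum_mem _ fun i _ => ?_
      rw [Algebra.TensorProduct.tmul_mul_tmul, one_mul, show v i ⊗ₜ[A] (x * e i) = v i • ((1 : C) ⊗ₜ[A] (x * e i))
        by rw [TensorProduct.smul_tmul', smul_eq_mul, mul_one]]
      exact M.smul_mem _ (hel (some (⟨x, hx⟩, i)))
    | algebraMap c =>
      intro m hm
      rw [Algebra.algebraMap_eq_smul_one, TensorProduct.tmul_smul, ← algebraMap_smul C,
        Algebra.smul_mul_assoc, ← Algebra.TensorProduct.one_def, one_mul]
      exact M.smul_mem _ hm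
    | add x y _ _ hx hy =>
      intro m hm
      rw [TensorProduct.tmul_add, add_mul]
      exact M.add_mem (hx m hm) (hy m hm)
    | mul x y _ _ hx hy =>
      intro m hm
      rw [show (1 : C) ⊗ₜ[A] (x * y) = ((1 : C) ⊗ₜ[A] x) * ((1 : C) ⊗ₜ[A] y) by simp, mul_assoc]
      exact hx _ (hy m hm)
  intro z
  suffices z ∈ M from this
  induction z using TensorProduct.induction_on with
  | zero => exact M.zero_mem
  | add x y hx hy => exact M.add_mem hx hy
  | tmul c b =>
    rw [show c ⊗ₜ[A] b = c • (((1 : C) ⊗ₜ[A] b) * ((1 : C) ⊗ₜ[A] el none)) by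
      simp [el, TensorProduct.smul_tmul']]
    exact M.smul_mem _ (hclosed b _ (hel none))

/-- The universal ring over which `s` is a unit and `𝔟` vanishes. -/
theorem exists_stage (s : A) (𝔟 : Ideal A) :
    ∃ (C₁ : Type u) (_ : CommRing C₁) (_ : Algebra A C₁), IsUnit (algebraMap A C₁ s) ∧
      𝔟.map (algebraMap A C₁) = ⊥ ∧
      (∀ (C : Type u) [CommRing C] [Algebra A C], IsUnit (algebraMap A C s) →
        𝔟.map (algebraMap A C) = ⊥ → Nonempty (C₁ →ₐ[A] C)) ∧
      ∀ c : C₁, ∃ (n : ℕ) (x : A), algebraMap A C₁ (s ^ n) * c = algebraMap A C₁ x := by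
  let As := Localization.Away s
  refine ⟨As ⧸ 𝔟.map (algebraMap A As), inferInstance, inferInstance,
    (IsLocalization.Away.algebraMap_isUnit (S := As) s).map (Ideal.Quotient.mk _), ?_, ?_, ?_⟩
  · rw [IsScalarTower.algebraMap_eq A As (As ⧸ 𝔟.map (algebraMap A As)), ← Ideal.map_map]
    exact Ideal.map_quotient_self (𝔟.map (algebraMap A As))
  · intro C _ _ hs hb
    let l : As →ₐ[A] C := IsLocalization.liftAlgHom (M := Submonoid.powers s) (f := Algebra.ofId A C)
      (by
        rintro ⟨_, n, rfl⟩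
        show IsUnit (algebraMap A C (s ^ n))
        rw [map_pow]; exact hs.pow n)
    exact ⟨Ideal.Quotient.liftₐ _ l (fun x hx => by
      refine (Ideal.map_le_iff_le_comap.2 (fun y hy => ?_) hx : x ∈ RingHom.ker l.toRingHom)
      show l (algebraMap A As y) = 0
      rw [AlgHom.commutes, ← Ideal.mem_bot, ← hb]
      exact Ideal.mem_map_of_mem _ hy)⟩
  · intro c
    obtain ⟨c, rfl⟩ := Ideal.Quotient.mk_surjective c
    obtain ⟨n, x, hx⟩ := IsLocalization.Away.surj s c
    refine ⟨n, x, ?_⟩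
    show Ideal.Quotient.mk _ (algebraMap A As (s ^ n)) * Ideal.Quotient.mk _ c = _
    rw [← map_mul, map_pow, mul_comm, hx]
    rfl

omit [p.IsPrime] in
/-- Bijectivity of `alpha` after base change, when the kernel generators die. -/
theorem injective_alpha_of_comp {C₁ C : Type u} [CommRing C₁] [Algebra A C₁] [CommRing C] [Algebra A C]
    [Algebra C₁ C] [IsScalarTower A C₁ C] {r : ℕ} (e : Fin r → B) (hs : Function.Surjective (alpha A C₁ e))
    (V : Set (Fin r → C₁)) (hV : Submodule.span C₁ V = LinearMap.ker (alpha A C₁ e))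
    (hVz : ∀ v ∈ V, ∀ i, algebraMap C₁ C (v i) = 0) : Function.Injective (alpha A C e) := by
  have hex := lTensor_exact C (LinearMap.exact_subtype_ker_map (alpha A C₁ e)) hs
  have hz : (LinearMap.ker (alpha A C₁ e)).subtype.lTensor C = 0 := by
    refine TensorProduct.ext' fun c v => ?_
    rw [LinearMap.lTensor_tmul, Submodule.subtype_apply, LinearMap.zero_apply]
    have : ∀ w ∈ Submodule.span C₁ V, c ⊗ₜ[C₁] w = 0 := fun w hw => by
      induction hw using Submodule.span_induction with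
      | mem w hw =>
        apply (TensorProduct.piScalarRight C₁ C C (Fin r)).injective
        rw [map_zero]
        funext i
        simp [TensorProduct.piScalarRight_apply, Algebra.smul_def, hVz w hw i]
      | zero => simp
      | add _ _ _ _ h h' => rw [TensorProduct.tmul_add, h, h', add_zero]
      | smul k w _ h => rw [TensorProduct.tmul_smul, h, smul_zero]
    refine this v.1 ?_
    rw [hV]
    exact v.2
  have hinj : Function.Injective ((alpha A C₁ e).baseChange C) := by
    rw [injective_iff_map_eq_zero]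
    intro z h0
    obtain ⟨w, rfl⟩ := (hex z).1 h0
    rw [hz]; rfl
  have hcomm : alpha A C e = (TensorProduct.AlgebraTensorModule.cancelBaseChange A C₁ C C B).toLinearMap.comp
      (((alpha A C₁ e).baseChange C).comp (TensorProduct.piScalarRight C₁ C C (Fin r)).symm.toLinearMap) := by
    refine LinearMap.pi_ext' fun i => LinearMap.ext_ring ?_
    simp [alpha, TensorProduct.piScalarRight_symm_single, Fintype.linearCombination_apply_single]
  rw [hcomm]
  simp only [LinearMap.coe_comp, LinearEquiv.coe_coe]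
  exact (LinearEquiv.injective _).comp (hinj.comp (LinearEquiv.injective _))

/-- **Spreading out freeness** at a minimal prime of a closed subset. -/
theorem exists_free_nhd [Algebra.FinitePresentation A B] [Module.Flat A B] [Algebra.QuasiFinite A B]
    (hp : p ∈ 𝔞.minimalPrimes) :
    ∃ s ∉ p, ∃ 𝔟 : Ideal A, 𝔟.FG ∧ 𝔟 ≤ 𝔞 ∧ ∃ (r : ℕ) (e : Fin r → B),
      ∀ (C : Type u) [CommRing C] [Algebra A C], IsUnit (algebraMap A C s) → 𝔟.map (algebraMap A C) = ⊥ →
        Function.Bijective (alpha A C e) := by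
  classical
  obtain ⟨r, e, hbij, heq⟩ := exists_basis (B := B) hp
  obtain ⟨s₁, hs₁, 𝔟, hfg, hle, hsurj⟩ := exists_surjective e heq
  obtain ⟨C₁, _, _, hu₁, hb₁, hlift, hrepr₁⟩ := exists_stage s₁ 𝔟
  have : Module.Finite C₁ (C₁ ⊗[A] B) := Module.Finite.of_surjective _ (hsurj C₁ hu₁ hb₁)
  have : Module.FinitePresentation C₁ (C₁ ⊗[A] B) :=
    Module.FinitePresentation.of_finite_of_finitePresentation C₁ _
  obtain ⟨V, hV⟩ := Module.FinitePresentation.fg_ker (alpha A C₁ e) (hsurj C₁ hu₁ hb₁)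
  have hbotK : 𝔟.map (algebraMap A (Loc p 𝔞)) = ⊥ := by
    rw [Ideal.map_eq_bot_iff_le_ker]
    intro x hx
    exact Ideal.Quotient.eq_zero_iff_mem.2 (Ideal.mem_map_of_mem _ (hle hx))
  obtain ⟨toK⟩ := hlift (Loc p 𝔞) (isUnit_loc p 𝔞 s₁ hs₁) hbotK
  have hzero : ∀ v : {v // v ∈ V}, ∀ i, toK (v.1 i) = 0 := by
    intro v i
    have h0 : alpha A C₁ e v.1 = 0 := LinearMap.mem_ker.1 (hV ▸ Submodule.subset_span v.2)
    have h1 : alpha A (Loc p 𝔞) e (fun i => toK (v.1 i)) = 0 := by
      have := congrArg (Algebra.TensorProduct.map toK (AlgHom.id A B)) h0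
      rw [map_zero, alpha_apply, map_sum] at this
      rw [alpha_apply]
      exact this
    exact congrFun (hbij.1 (h1.trans (map_zero _).symm)) i
  have hkill : ∀ vi : {v // v ∈ V} × Fin r, ∃ t ∉ p, ∃ x ∈ 𝔞, ∀ (C : Type u) [CommRing C] [Algebra A C]
      (φ : C₁ →ₐ[A] C), IsUnit (algebraMap A C s₁) → IsUnit (algebraMap A C t) → algebraMap A C x = 0 →
        φ (vi.1.1 vi.2) = 0 := by
    intro vi
    obtain ⟨n, x, hx⟩ := hrepr₁ (vi.1.1 vi.2)
    have h0 : algebraMap A (Loc p 𝔞) x = 0 := by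
      rw [← toK.commutes, ← hx, map_mul, hzero vi.1 vi.2, mul_zero]
    have h0' : algebraMap A (Localization.AtPrime p) x ∈ 𝔞.map (algebraMap A (Localization.AtPrime p)) :=
      Ideal.Quotient.eq_zero_iff_mem.1 h0
    rw [IsLocalization.algebraMap_mem_map_algebraMap_iff p.primeCompl] at h0'
    obtain ⟨t, ht, htx⟩ := h0'
    refine ⟨t, ht, t * x, htx, fun C _ _ φ hs ht' hx' => ?_⟩
    rw [map_mul, ht'.mul_right_eq_zero] at hx'
    have := congrArg φ hx
    rw [map_mul, AlgHom.commutes, AlgHom.commutes, hx', map_pow, (hs.pow n).mul_right_eq_zero] at this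
    exact this
  choose t₂ ht₂ x₂ hx₂ hk₂ using hkill
  refine ⟨s₁ * ∏ vi, t₂ vi, fun h => ?_, 𝔟 ⊔ Ideal.span (Set.range x₂),
    Submodule.FG.sup hfg (Submodule.fg_span (Set.finite_range x₂)),
    sup_le hle (Ideal.span_le.2 (Set.range_subset_iff.2 hx₂)), r, e, fun C _ _ hs hb => ?_⟩
  · rcases Ideal.IsPrime.mem_or_mem ‹_› h with h | h
    · exact hs₁ h
    · obtain ⟨vi, -, hvi⟩ := (Ideal.IsPrime.prod_mem_iff).1 h
      exact ht₂ vi hvi
  have hsu := IsUnit.mul_iff.1 (map_mul (algebraMap A C) _ _ ▸ hs)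
  have hb' : 𝔟.map (algebraMap A C) = ⊥ := le_bot_iff.1 (hb ▸ Ideal.map_mono le_sup_left)
  refine ⟨?_, hsurj C hsu.1 hb'⟩
  obtain ⟨φ⟩ := hlift C hsu.1 hb'
  let := φ.toRingHom.toAlgebra
  have : IsScalarTower A C₁ C := IsScalarTower.of_algebraMap_eq fun x => (φ.commutes x).symm
  refine injective_alpha_of_comp e (hsurj C₁ hu₁ hb₁) V hV fun v hv i => ?_
  refine hk₂ (⟨v, hv⟩, i) C φ hsu.1 (isUnit_of_dvd_unit (map_dvd _ (Finset.dvd_prod_of_mem t₂ (Finset.mem_univ _))) hsu.2) ?_
  rw [← Ideal.mem_bot, ← hb]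
  exact Ideal.mem_map_of_mem _ (Ideal.mem_sup_right (Ideal.subset_span ⟨_, rfl⟩))

end Spread

/-- The `𝔟`-torsion of a flat algebra free modulo `𝔟`. -/
theorem exists_torsion_map [Module.Flat A B] (𝔟 : Ideal A) (hfg : 𝔟.FG) {r : ℕ} (e : Fin r → B)
    (he : Function.Bijective (alpha A (A ⧸ 𝔟) e)) (g : B) (hg : ∀ x ∈ 𝔟, x • g = 0) :
    ∃ (F : Ideal A) (φ : (Fin r → ↥F) →ₗ[A] B), Function.Injective φ ∧ g ∈ LinearMap.range φ := by
  obtain ⟨G, hG⟩ := hfg
  let μ : A →ₗ[A] ({x // x ∈ G} → A) := LinearMap.pi fun x => LinearMap.mul A A x.1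
  let F : Ideal A := LinearMap.ker μ
  have hF : ∀ a ∈ F, ∀ x ∈ 𝔟, x * a = 0 := by
    intro a ha x hx
    rw [← hG] at hx
    induction hx using Submodule.span_induction with
    | mem x hx => exact congrFun (LinearMap.mem_ker.1 ha) ⟨x, hx⟩
    | zero => simp
    | add _ _ _ _ h h' => rw [add_mul, h, h', add_zero]
    | smul k w _ h => rw [smul_eq_mul, mul_assoc, h, mul_zero]
  have htors : Module.IsTorsionBySet A F (𝔟 : Set A) := fun a x => Subtype.ext (hF a.1 a.2 x.1 x.2)
  letI := htors.module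
  haveI : IsScalarTower A (A ⧸ 𝔟) F := htors.isScalarTower
  let ε : (F ⊗[A] B) →ₗ[A] B := (TensorProduct.lid A B).toLinearMap.comp (F.subtype.rTensor B)
  have hε : Function.Injective ε :=
    (TensorProduct.lid A B).injective.comp (Module.Flat.rTensor_preserves_injective_linearMap _ Subtype.val_injective)
  let φ : (Fin r → ↥F) →ₗ[A] B := ∑ i, (LinearMap.toSpanSingleton A B (e i)).comp (F.subtype.comp (LinearMap.proj i))
  have hφ : ∀ v, φ v = ∑ i, (v i : A) • e i := fun v => by simp [φ, LinearMap.sum_apply]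
  let Ψ : (Fin r → ↥F) ≃ₗ[A] F ⊗[A] B :=
    (((TensorProduct.piScalarRight (A ⧸ 𝔟) (A ⧸ 𝔟) F (Fin r)).symm.trans
      (TensorProduct.AlgebraTensorModule.congr (LinearEquiv.refl (A ⧸ 𝔟) F) (LinearEquiv.ofBijective _ he))).restrictScalars A).trans
      ((TensorProduct.AlgebraTensorModule.cancelBaseChange A (A ⧸ 𝔟) (A ⧸ 𝔟) F B).restrictScalars A)
  have hΨ : ε.comp Ψ.toLinearMap = φ := by
    refine LinearMap.pi_ext fun i a => ?_
    rw [hφ, Finset.sum_eq_single i (fun j _ hj => by simp [hj]) (by simp)]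
    simp [Ψ, ε, TensorProduct.piScalarRight_symm_single, alpha, Fintype.linearCombination_apply_single]
  refine ⟨F, φ, ?_, ?_⟩
  · rw [← hΨ]; exact hε.comp Ψ.injective
  · have hex : Function.Exact F.subtype μ := LinearMap.exact_subtype_ker_map μ
    have := (Module.Flat.rTensor_exact B hex) ((1 : A) ⊗ₜ[A] g)
    obtain ⟨w, hw⟩ := this.1 (by
      rw [LinearMap.rTensor_tmul]
      apply (TensorProduct.comm A _ B).injective
      classical
      apply (TensorProduct.piScalarRight A A B {x // x ∈ G}).injective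
      rw [map_zero, map_zero]
      funext x
      simp [μ, hg x.1 (hG ▸ Submodule.subset_span x.2)])
    refine ⟨Ψ.symm w, ?_⟩
    rw [← hΨ, LinearMap.comp_apply, LinearEquiv.coe_coe, Ψ.apply_symm_apply]
    show TensorProduct.lid A B (F.subtype.rTensor B w) = g
    rw [hw, TensorProduct.lid_tmul, one_smul]

end Groth.Agent.FlatMorQF

namespace Groth.Agent.FlatMorQF

open TensorProduct

/-- A nonzero element of a flat quasi-finite algebra lies, after localisation at one element of the base,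
in a copy of `F^r` for some ideal `F`. -/
theorem exists_localization_torsion_map {A B : Type u} [CommRing A] [CommRing B] [Algebra A B]
    [Algebra.FinitePresentation A B] [Module.Flat A B] [Algebra.QuasiFinite A B] (g : B) (hg : g ≠ 0) :
    ∃ s : A, (∀ k : ℕ, s ^ k • g ≠ 0) ∧
      ∀ (A' B' : Type u) [CommRing A'] [CommRing B'] [Algebra A A'] [Algebra B B'] [Algebra A' B'] [Algebra A B']
        [IsScalarTower A A' B'] [IsScalarTower A B B'] [IsLocalization.Away s A']
        [IsLocalization.Away (algebraMap A B s) B'],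
        ∃ (F : Ideal A') (r : ℕ), 0 < r ∧
          ∃ φ : (Fin r → ↥F) →ₗ[A'] B', Function.Injective φ ∧ algebraMap B B' g ∈ LinearMap.range φ := by
  let 𝔞 : Ideal A := LinearMap.ker (LinearMap.toSpanSingleton A B g)
  have h𝔞 : 𝔞 ≠ ⊤ := fun h => hg (by
    have : (1 : A) ∈ 𝔞 := h ▸ Submodule.mem_top
    simpa [𝔞] using this)
  obtain ⟨m, hm, hle⟩ := Ideal.exists_le_maximal 𝔞 h𝔞
  obtain ⟨p, hp, -⟩ := Ideal.exists_minimalPrimes_le hle
  have := hp.1.1
  obtain ⟨s, hsp, 𝔟, hfg, hb, r, e, he⟩ := exists_free_nhd (B := B) hp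
  have hs : ∀ k : ℕ, s ^ k • g ≠ 0 := fun k h =>
    hsp (hp.1.1.mem_of_pow_mem k (hp.1.2 (show s ^ k ∈ 𝔞 by simpa [𝔞] using h)))
  refine ⟨s, hs, fun A' B' _ _ _ _ _ _ _ _ _ _ => ?_⟩
  have : IsLocalization (Algebra.algebraMapSubmonoid B (Submonoid.powers s)) B' := by
    rw [Algebra.algebraMapSubmonoid, Submonoid.map_powers]
    infer_instance
  have : Module.Flat B B' := IsLocalization.flat B' (Submonoid.powers (algebraMap A B s))
  have : Module.Flat A B' := Module.Flat.trans A B B'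
  have : Module.Flat A' B' := (Module.flat_iff_of_isLocalization A' (Submonoid.powers s) B').2 ‹_›
  let C := A' ⧸ 𝔟.map (algebraMap A A')
  have hbij := he C ((IsLocalization.Away.algebraMap_isUnit (S := A') s).map (Ideal.Quotient.mk _))
    (by rw [IsScalarTower.algebraMap_eq A A' C, ← Ideal.map_map]; exact Ideal.map_quotient_self (𝔟.map (algebraMap A A')))
  have hpush : Algebra.IsPushout A A' B B' := (Algebra.isPushout_of_isLocalization (Submonoid.powers s) A' B B').symm
  have h1 : IsBaseChange A' (IsScalarTower.toAlgHom A B B').toLinearMap := hpush.out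
  have h2 := h1.comp (TensorProduct.isBaseChange A' B' C)
  let θ : C ⊗[A] B ≃ₗ[C] C ⊗[A'] B' := h2.equiv
  have hθ : alpha A' C (fun i => algebraMap B B' (e i)) = θ.toLinearMap.comp (alpha A C e) := by
    refine LinearMap.pi_ext' fun i => LinearMap.ext_ring ?_
    simp only [LinearMap.comp_apply, LinearEquiv.coe_coe, LinearMap.single_apply, alpha,
      Fintype.linearCombination_apply_single, one_smul]
    show _ = h2.equiv ((1 : C) ⊗ₜ[A] e i)
    rw [IsBaseChange.equiv_tmul, one_smul]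
    rfl
  have hbij' : Function.Bijective (alpha A' C fun i => algebraMap B B' (e i)) := by
    rw [hθ, LinearMap.coe_comp]; exact θ.bijective.comp hbij
  obtain ⟨F, φ, hφ, hgφ⟩ := exists_torsion_map (𝔟.map (algebraMap A A')) (hfg.map _) _ hbij'
    (algebraMap B B' g) (fun x hx => by
      induction hx using Submodule.span_induction with
      | mem x hx =>
        obtain ⟨a, ha, rfl⟩ := hx
        have : a • g = 0 := by simpa [𝔞] using hb ha
        rw [algebraMap_smul]
        rw [Algebra.smul_def, IsScalarTower.algebraMap_apply A B B', ← map_mul, ← Algebra.smul_def, this, map_zero]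
      | zero => exact zero_smul _ _
      | add _ _ _ _ h h' => rw [add_smul, h, h', add_zero]
      | smul k w _ h => rw [smul_eq_mul, mul_smul, h, smul_zero])
  refine ⟨F, r, Nat.pos_of_ne_zero fun h0 => ?_, φ, hφ, hgφ⟩
  obtain ⟨v, hv⟩ := hgφ
  subst h0
  have hv0 : v = 0 := funext fun i => i.elim0
  rw [hv0, map_zero] at hv
  obtain ⟨⟨_, n, rfl⟩, hn⟩ := (IsLocalization.map_eq_zero_iff (Submonoid.powers (algebraMap A B s)) B' g).1 hv.symm
  exact hs n (by rw [Algebra.smul_def, map_pow]; exact hn)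

end Groth.Agent.FlatMorQF
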